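import Cfsg.Agent.Lib.CosetEnum.He2058.Orbits
import Cfsg.Agent.Lib.CosetEnum.He49980.Enum
import Cfsg.Agent.Lib.CosetEnum.HeWord
import Cfsg.Agent.Lib.CosetEnum.HeChain.L6
import Cfsg.Agent.Lib.CosetEnum.HeSlp
import Cfsg.Agent.Lib.CosetEnum.Simple

/-!
The faithful action of the presented Held group on 2058 cosets and the order of the stabiliser.
-/

set_option autoImplicit false

namespace Cfsg.Agent.Lib.CosetEnumHe.Held

open Cfsg.Agent.Lib.CosetEnum
open Cfsg.Agent.Lib.CosetEnum.HeWord (pres)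

/-- The subgroup of index 2058. -/
noncomputable abbrev H2058 : Subgroup (PresentedGroup pres) := subOf He2058.letters pres He2058.subWords

theorem exists_action : ∃ ρ : Cfsg.Spor.He →* Equiv.Perm (Fin 2058),
    (∀ g < He2058.letters.K, ∀ i : Fin 2058,
      ((ρ (He2058.letters.phi pres g))⁻¹ i).1 = get32 He2058.table (i.1 * He2058.letters.K + g)) ∧
    (∀ x, x ∈ H2058 ↔ ρ x ⟨0, by omega⟩ = ⟨0, by omega⟩) ∧
    (∀ i, ∃ x, ρ x ⟨0, by omega⟩ = i) ∧ Function.Injective ρ ∧
    Nat.card Cfsg.Spor.He = 4030387200 ∧ Nat.card H2058 = 1958400 := by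
  obtain ⟨ρ, hρ, hst, htr⟩ := He2058.enum.action
  have hsub : subOf He49980.letters He49980.pres He49980.subWords =
      subOf He49980.letters He49980.pres (He49980.subWords.flatten.map fun g => [g]) := rfl
  have hidx := He49980.enum.index
  have hge := HeSlp.card_ge ρ _ hρ
  obtain ⟨hG, -, hinj⟩ := card_of_bounds (B := 80640) ρ (by omega) hidx
    (by rw [hsub]; exact HeChain.L6.bound) (hge.trans' (by omega))
  have hord : Nat.card Cfsg.Spor.He = 4030387200 := hG.trans (by norm_num)
  refine ⟨ρ, hρ, hst, htr, hinj, hord, ?_⟩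
  have h := H2058.card_mul_index
  rw [He2058.enum.index] at h
  exact Nat.eq_of_mul_eq_mul_right (by omega : 0 < 2058) ((h.trans hord).trans (by norm_num))

end Cfsg.Agent.Lib.CosetEnumHe.Held
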