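import Cfsg.Agent.Lib.CosetEnumHe.Sp44Data
import Cfsg.Agent.Lib.Symplectic.Std
import Cfsg.Agent.Lib.RecogThree.OrdersFive.FieldFour

/-!
The symplectic group of dimension four over the field with four elements acting on the 85 points.
-/

set_option autoImplicit false
set_option maxRecDepth 20000

namespace Cfsg.Agent.Lib.CosetEnumHe.Sp44

open Cfsg.Agent.Lib.Computation
open Cfsg.Agent.Lib.RecogThree.OrdersFive
open scoped Matrix

/-- The index set of the coordinates. -/
abbrev I : Type := Fin 2 ⊕ Fin 2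

/-- Position of a coordinate. -/
def pos : I → ℕ
  | Sum.inl i => i.1
  | Sum.inr i => 2 + i.1

/-- Code of a vector. -/
def code (v : I → GF4) : ℕ :=
  64 * (v (Sum.inl 0)).num + 16 * (v (Sum.inl 1)).num + 4 * (v (Sum.inr 0)).num + (v (Sum.inr 1)).num

/-- The point of a vector. -/
def idxV (v : I → GF4) : Fin 85 := Fin.ofNat 85 (getW 7 Sp44Data.normCode (code v))

/-- The representative vector of a point. -/
def vec (i : Fin 85) : I → GF4 := fun k =>
  GF4.ofNum (getW 8 Sp44Data.vecCode i.1 / 4 ^ (3 - pos k) % 4)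

/-- Four coordinates as a vector. -/
def mk (a b c d : GF4) : I → GF4 := Sum.elim ![a, b] ![c, d]

theorem mk_eta (v : I → GF4) :
    mk (v (Sum.inl 0)) (v (Sum.inl 1)) (v (Sum.inr 0)) (v (Sum.inr 1)) = v := by
  funext k
  rcases k with k | k <;> fin_cases k <;> rfl

theorem vec_spec : ∀ i : Fin 85, vec i ≠ 0 ∧ idxV (vec i) = i := by decide +kernel

theorem idxV_smul' : ∀ c a b e f : GF4, c ≠ 0 →
    idxV (c • mk a b e f) = idxV (mk a b e f) := by decide +kernel

theorem exists_scalar' : ∀ a b e f : GF4, mk a b e f ≠ 0 →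
    ∃ c : GF4, c ≠ 0 ∧ vec (idxV (mk a b e f)) = c • mk a b e f := by decide +kernel

theorem idxV_smul (c : GF4) (v : I → GF4) (hc : c ≠ 0) : idxV (c • v) = idxV v := by
  rw [← mk_eta v]; exact idxV_smul' c _ _ _ _ hc

theorem exists_scalar (v : I → GF4) (hv : v ≠ 0) : ∃ c : GF4, c ≠ 0 ∧ vec (idxV v) = c • v := by
  have h := exists_scalar' (v (Sum.inl 0)) (v (Sum.inl 1)) (v (Sum.inr 0)) (v (Sum.inr 1))
  rw [mk_eta v] at h
  exact h hv

/-- The group. -/
abbrev Sp44 := Matrix.symplecticGroup (Fin 2) GF4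

theorem coe_mulVec_inv (g : Sp44) (v : I → GF4) :
    ((g⁻¹ : Sp44) : Matrix I I GF4) *ᵥ ((g : Matrix I I GF4) *ᵥ v) = v := by
  rw [Matrix.mulVec_mulVec, ← Submonoid.coe_mul, inv_mul_cancel, Submonoid.coe_one,
    Matrix.one_mulVec]

theorem mulVec_ne_zero (g : Sp44) {v : I → GF4} (hv : v ≠ 0) :
    (g : Matrix I I GF4) *ᵥ v ≠ 0 := by
  intro h
  apply hv
  rw [← coe_mulVec_inv g v, h, Matrix.mulVec_zero]

/-- The map on points. -/
def act (g : Sp44) (i : Fin 85) : Fin 85 := idxV ((g : Matrix I I GF4) *ᵥ vec i)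

theorem act_mul (g h : Sp44) (i : Fin 85) : act (g * h) i = act g (act h i) := by
  obtain ⟨c, hc, hv⟩ := exists_scalar _ (mulVec_ne_zero h (vec_spec i).1)
  simp only [act, Submonoid.coe_mul, ← Matrix.mulVec_mulVec, hv, Matrix.mulVec_smul,
    idxV_smul c _ hc]

theorem act_one (i : Fin 85) : act 1 i = i := by
  simp [act, (vec_spec i).2]

/-- The action homomorphism. -/
def actHom : Sp44 →* Equiv.Perm (Fin 85) where
  toFun g :=
    { toFun := act g
      invFun := act g⁻¹
      left_inv := fun i => by rw [← act_mul, inv_mul_cancel, act_one]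
      right_inv := fun i => by rw [← act_mul, mul_inv_cancel, act_one] }
  map_one' := Equiv.ext act_one
  map_mul' g h := Equiv.ext (act_mul g h)

/-- The matrix with a code. -/
def mat (c : ℕ) : Matrix I I GF4 := Matrix.of fun i j =>
  GF4.ofNum (getW 2 c (4 * pos i + pos j))

theorem mat_mem : ∀ c ∈ Sp44Data.matCodes,
    mat c * Matrix.J (Fin 2) GF4 * (mat c)ᵀ = Matrix.J (Fin 2) GF4 := by decide +kernel

theorem mat_act : List.Forall₂ (fun m c => ∀ i : Fin 85,
      (idxV (mat m *ᵥ vec i)).1 = getW 7 c i.1) Sp44Data.matCodes Sp44Data.six_gens := by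
  unfold Sp44Data.matCodes Sp44Data.six_gens
  repeat' constructor
  all_goals decide +kernel

theorem gens_ok : ∀ c ∈ Sp44Data.six_gens, okPerm 85 7 c = true := by decide +kernel

theorem six_le : ∀ c ∈ Sp44Data.six_gens, decodeP 85 7 c ∈ actHom.range := by
  intro c hc
  obtain ⟨k, hk, rfl⟩ := List.getElem_of_mem hc
  have hlen := mat_act.length_eq
  have hk' : k < Sp44Data.matCodes.length := hlen ▸ hk
  have hm := List.Forall₂.get mat_act hk' hk
  refine ⟨⟨mat (Sp44Data.matCodes[k]), SymplecticGroup.mem_iff.2 (mat_mem _ (List.getElem_mem hk'))⟩, ?_⟩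
  refine Equiv.ext fun i => Fin.ext ?_
  rw [decodeP_apply (gens_ok _ hc)]
  exact hm i

theorem card_Sp44 : Nat.card Sp44 = 979200 := by
  rw [Cfsg.Agent.Lib.Symplectic.card_sp (q := 4) (by rw [Nat.card_eq_fintype_card, GF4.card_eq]) 2]
  decide

/-- The group generated by the six linear generators. -/
noncomputable def linGroup : Subgroup (Equiv.Perm (Fin 85)) :=
  Subgroup.closure (decodeP 85 7 '' {c | c ∈ Sp44Data.six_gens})

/-- The group generated by all seven generators. -/
noncomputable def semiGroup : Subgroup (Equiv.Perm (Fin 85)) :=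
  Subgroup.closure (decodeP 85 7 '' {c | c ∈ Sp44Data.seven_gens})

theorem card_linGroup : Nat.card linGroup = 979200 :=
  ((permRep 85 7 (by decide)).card_closure Sp44Data.six_check).trans Sp44Data.six_order

theorem card_semiGroup : Nat.card semiGroup = 1958400 :=
  ((permRep 85 7 (by decide)).card_closure Sp44Data.seven_check).trans Sp44Data.seven_order

theorem linGroup_le_semiGroup : linGroup ≤ semiGroup := by
  refine Subgroup.closure_mono (Set.image_mono ?_)
  show ∀ c ∈ Sp44Data.six_gens, c ∈ Sp44Data.seven_gens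
  decide +kernel

theorem linGroup_equiv : Nonempty (linGroup ≃* Sp44) := by
  have hle : linGroup ≤ actHom.range := by
    refine (Subgroup.closure_le _).2 ?_
    rintro _ ⟨c, hc, rfl⟩
    exact six_le c hc
  have hR : Nat.card actHom.range ≤ 979200 :=
    card_Sp44 ▸ Nat.card_le_card_of_surjective _ actHom.rangeRestrict_surjective
  have heq : linGroup = actHom.range :=
    Subgroup.eq_of_le_of_card_ge hle (card_linGroup.symm ▸ hR)
  have hb : Function.Bijective actHom.rangeRestrict := by
    haveI : Finite Sp44 := Nat.finite_of_card_ne_zero (by rw [card_Sp44]; omega)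
    rw [Nat.bijective_iff_surjective_and_card]
    exact ⟨actHom.rangeRestrict_surjective, by rw [card_Sp44, ← heq, card_linGroup]⟩
  exact ⟨(MulEquiv.subgroupCongr heq).trans (MulEquiv.ofBijective _ hb).symm⟩

end Cfsg.Agent.Lib.CosetEnumHe.Sp44
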