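import Cfsg.Agent.Lib.CosetEnumHe.Held
import Cfsg.Agent.Lib.CosetEnumHe.Sp44

/-!
The point stabiliser of the Held group on 2058 points acts faithfully on the 85 blocks of the
suborbit of length 425, as the extension of the symplectic group by the field automorphism.
-/

set_option autoImplicit false
set_option maxRecDepth 20000

namespace Cfsg.Agent.Lib.CosetEnumHe.Stab

open Cfsg.Agent.Lib.CosetEnum
open Cfsg.Agent.Lib.Computation (getW decodeP decodeP_apply)
open Cfsg.Agent.Lib.CosetEnum.HeWord (pres)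
open Cfsg.Agent.Lib.CosetEnumHe.Held (H2058)
open Cfsg.Agent.Lib.CosetEnumHe.Sp44Data (blkCode repCode permCodes)

/-- The block of a coset. -/
noncomputable def bl (y : ℕ) : ℕ := getW 7 blkCode y

/-- A permutation of the blocks, fixing the outside label. -/
def ext (σ : Equiv.Perm (Fin 85)) (m : ℕ) : ℕ := if h : m < 85 then (σ ⟨m, h⟩ : ℕ) else m

theorem ext_one (m : ℕ) : ext 1 m = m := by simp [ext]

theorem ext_mul (σ τ : Equiv.Perm (Fin 85)) (m : ℕ) : ext (σ * τ) m = ext σ (ext τ m) := by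
  unfold ext
  by_cases h : m < 85
  · simp [h]
  · simp [h]

/-- The check for one generator. -/
noncomputable def genCheck (w : List ℕ) (c : ℕ) : Bool :=
  allBelow 2058 fun y => force (scan He2058.letters.K He2058.table w y) fun z => force (bl z) fun m =>
    Nat.beq (Bool.rec m (getW 7 c m) (Nat.blt m 85)) (bl y)

theorem gen_check : List.Forall₂ (fun w c => genCheck w c = true) He2058.subWords permCodes := by
  unfold He2058.subWords Sp44Data.permCodes
  repeat' constructor
  all_goals decide +kernel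

theorem rep_spec : ∀ j : Fin 85, getW 12 repCode j.1 < 2058 ∧ bl (getW 12 repCode j.1) = j.1 := by
  decide +kernel

theorem words_lt : ∀ w ∈ He2058.subWords, ∀ g ∈ w, g < He2058.letters.K := by decide +kernel

variable (ρ : PresentedGroup pres →* Equiv.Perm (Fin 2058))

/-- `σ` is the block permutation of `h`. -/
def Rel (h : PresentedGroup pres) (σ : Equiv.Perm (Fin 85)) : Prop :=
  ∀ z : Fin 2058, bl (ρ h z).1 = ext σ (bl z.1)

variable {ρ}

theorem rel_one : Rel ρ 1 1 := fun z => by simp [map_one, ext_one]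

theorem rel_mul {h k : PresentedGroup pres} {σ τ : Equiv.Perm (Fin 85)} (h1 : Rel ρ h σ)
    (h2 : Rel ρ k τ) : Rel ρ (h * k) (σ * τ) := fun z => by
  rw [map_mul, Equiv.Perm.mul_apply, h1, h2, ext_mul]

theorem rel_inv {h : PresentedGroup pres} {σ : Equiv.Perm (Fin 85)} (h1 : Rel ρ h σ) :
    Rel ρ h⁻¹ σ⁻¹ := fun z => by
  have := h1 (ρ h⁻¹ z)
  rw [map_inv, Equiv.Perm.inv_def, Equiv.apply_symm_apply] at this
  rw [map_inv, Equiv.Perm.inv_def, this, ← ext_mul, ← Equiv.Perm.inv_def, inv_mul_cancel, ext_one]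

theorem rel_unique {h : PresentedGroup pres} {σ τ : Equiv.Perm (Fin 85)} (h1 : Rel ρ h σ)
    (h2 : Rel ρ h τ) : σ = τ := by
  refine Equiv.ext fun j => Fin.ext ?_
  obtain ⟨hlt, hb⟩ := rep_spec j
  have e := (h1 ⟨_, hlt⟩).symm.trans (h2 ⟨_, hlt⟩)
  rw [hb] at e
  simpa [ext, j.2] using e

theorem rel_gen (hρ : ∀ g < He2058.letters.K, ∀ i : Fin 2058,
      ((ρ (He2058.letters.phi pres g))⁻¹ i).1 = get32 He2058.table (i.1 * He2058.letters.K + g))
    {w : List ℕ} (hw : w ∈ He2058.subWords) {c : ℕ} (hc : c ∈ permCodes)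
    (h : genCheck w c = true) :
    Rel ρ ((w.map (He2058.letters.phi pres)).prod) (decodeP 85 7 c) := by
  intro z
  set x := (w.map (He2058.letters.phi pres)).prod with hx
  have hs := rho_scan He2058.letters pres ρ hρ w (words_lt w hw) (ρ x z)
  rw [← hx, Equiv.Perm.inv_def, Equiv.symm_apply_apply] at hs
  have h' := allBelow_iff.1 h (ρ x z).1 (ρ x z).2
  simp only [force_eq, ← hs] at h'
  rw [← Nat.eq_of_beq_eq_true h']
  unfold ext
  by_cases hm : bl z.1 < 85
  · rw [dif_pos hm, decodeP_apply (Sp44Data.perms_ok c hc), show Nat.blt (bl z.1) 85 = true from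
      by rw [Nat.blt_eq]; exact hm]
  · rw [dif_neg hm, show Nat.blt (bl z.1) 85 = false from by
      rw [Bool.eq_false_iff]; rw [Ne, Nat.blt_eq]; exact hm]

/-- The faithful action of the point stabiliser on the blocks. -/
theorem exists_hom (hρ : ∀ g < He2058.letters.K, ∀ i : Fin 2058,
      ((ρ (He2058.letters.phi pres g))⁻¹ i).1 = get32 He2058.table (i.1 * He2058.letters.K + g))
    (hH : Nat.card H2058 = 1958400) :
    ∃ Ψ : H2058 →* Equiv.Perm (Fin 85), (∀ x : H2058, Rel ρ x.1 (Ψ x)) ∧ Function.Injective Ψ ∧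
      Sp44.semiGroup ≤ Ψ.range := by
  classical
  have hpair : ∀ w ∈ He2058.subWords, ∃ c ∈ permCodes, genCheck w c = true := by
    intro w hw
    obtain ⟨k, hk, rfl⟩ := List.getElem_of_mem hw
    have hk' : k < permCodes.length := gen_check.length_eq ▸ hk
    exact ⟨_, List.getElem_mem hk', List.Forall₂.get gen_check hk hk'⟩
  have hex : ∀ x : H2058, ∃ σ, Rel ρ x.1 σ := by
    rintro ⟨x, hx⟩
    induction hx using Subgroup.closure_induction with
    | mem x hx =>
      obtain ⟨w, hw, rfl⟩ := hx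
      obtain ⟨c, hc, h⟩ := hpair w hw
      exact ⟨_, rel_gen hρ hw hc h⟩
    | one => exact ⟨1, rel_one⟩
    | mul a b _ _ ha hb => exact ⟨_, rel_mul ha.choose_spec hb.choose_spec⟩
    | inv a _ ha => exact ⟨_, rel_inv ha.choose_spec⟩
  choose σ hσ using hex
  let Ψ : H2058 →* Equiv.Perm (Fin 85) :=
    MonoidHom.mk' σ fun a b => rel_unique (hσ (a * b)) (rel_mul (hσ a) (hσ b))
  have hrange : Sp44.semiGroup ≤ Ψ.range := by
    refine (Subgroup.closure_le _).2 ?_
    rintro _ ⟨c, hc, rfl⟩
    have hc' : c ∈ permCodes := Sp44Data.seven_eq ▸ hc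
    obtain ⟨k, hk, rfl⟩ := List.getElem_of_mem hc'
    have hk' : k < He2058.subWords.length := gen_check.length_eq.symm ▸ hk
    have hw := List.getElem_mem hk'
    refine ⟨⟨_, Subgroup.subset_closure ⟨_, hw, rfl⟩⟩, ?_⟩
    exact rel_unique (hσ _) (rel_gen hρ hw hc' (List.Forall₂.get gen_check hk' hk))
  haveI : Finite H2058 := Nat.finite_of_card_ne_zero (by rw [hH]; omega)
  have hR : 1958400 ≤ Nat.card Ψ.range :=
    Sp44.card_semiGroup ▸ Subgroup.card_le_of_le hrange
  have hR' : Nat.card Ψ.range ≤ 1958400 :=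
    hH ▸ Nat.card_le_card_of_surjective _ Ψ.rangeRestrict_surjective
  have hinj : Function.Injective Ψ := by
    have hb : Function.Bijective Ψ.rangeRestrict := by
      rw [Nat.bijective_iff_surjective_and_card]
      exact ⟨Ψ.rangeRestrict_surjective, by rw [hH]; omega⟩
    intro a b h
    exact hb.1 (Subtype.ext h)
  exact ⟨Ψ, hσ, hinj, hrange⟩

/-- The point stabiliser has a normal subgroup of index two which is the symplectic group. -/
theorem exists_normal : ∃ N : Subgroup H2058, N.Normal ∧ N.index = 2 ∧ Nonempty (N ≃* Sp44.Sp44) := by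
  obtain ⟨ρ, hρ, -, -, -, -, hH⟩ := Held.exists_action
  obtain ⟨Ψ, -, hinj, hrange⟩ := exists_hom hρ hH
  have hle : Sp44.linGroup ≤ Ψ.range := Sp44.linGroup_le_semiGroup.trans hrange
  let N : Subgroup H2058 := Sp44.linGroup.comap Ψ
  have hmap : N.map Ψ = Sp44.linGroup := Subgroup.map_comap_eq_self hle
  let e : N ≃* Sp44.linGroup :=
    (Subgroup.equivMapOfInjective N Ψ hinj).trans (MulEquiv.subgroupCongr hmap)
  have hidx : N.index = 2 := by
    have h := N.card_mul_index
    rw [hH, Nat.card_congr e.toEquiv, Sp44.card_linGroup] at h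
    omega
  exact ⟨N, Subgroup.normal_of_index_eq_two hidx, hidx, ⟨e.trans Sp44.linGroup_equiv.some⟩⟩

end Cfsg.Agent.Lib.CosetEnumHe.Stab
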